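import Cfsg.Agent.H615.GU.ColOf

/-!
# S4537, part A2b: numbers of submodules and automorphisms of a nilpotent module (helper273)

`card_sub`, `card_aut` : for a nilpotent endomorphism `T` over a finite field with `t` elements the number of `T`-stable
subspaces of type `n` is `Np (colOf T) n (t)`, and `T` has `ap (colOf T) (t)` automorphisms.

Every homomorphism factors through its image: `t ^ ip l m = ∑ k, #quotients of type k · #automorphisms · #submodules of
type k`; the polynomials satisfy the same identity (I1), and both systems are unitriangular (`LDU` decomposition), so that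
they coincide.  The quotients are counted at the same time (`card_quot`); no duality is needed.
-/

set_option autoImplicit false
set_option linter.unusedSectionVars false

open Polynomial Module Cfsg.Agent.H615.GU

namespace Cfsg.Agent.H273.GU

/-! ### dimensions -/

section dims

variable {F V W : Type*} [Field F] [AddCommGroup V] [Module F V] [Module.Finite F V]
  [AddCommGroup W] [Module F W] [Module.Finite F W]

theorem sum_colOf (T : V →ₗ[F] V) (n : ℕ) :
    ∑ i ∈ Finset.range n, colOf T i = finrank F (LinearMap.ker (T ^ n)) := by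
  induction n with
  | zero =>
    rw [Finset.sum_range_zero, pow_zero, Module.End.one_eq_id, LinearMap.ker_id, finrank_bot]
  | succ n ih => rw [Finset.sum_range_succ, ih, add_comm, colOf_add]

theorem colOf_eq_zero (T : V →ₗ[F] V) {i : ℕ} (h : finrank F V ≤ i) : colOf T i = 0 := finrank_col_eq_zero T h

theorem size_colOf (T : V →ₗ[F] V) (hT : IsNilpotent T) : (colOf T).size = finrank F V := by
  obtain ⟨n, hn⟩ := hT
  rw [Col.size_eq_sum_range (le_max_left _ n), sum_colOf, pow_eq_zero_of_le (le_max_right _ n) hn,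
    LinearMap.ker_zero, finrank_top]

theorem pow_comm {T : V →ₗ[F] V} {S : W →ₗ[F] W} {f : V →ₗ[F] W} (h : ∀ v, f (T v) = S (f v)) (n : ℕ) (v : V) :
    f ((T ^ n) v) = (S ^ n) (f v) := by
  induction n generalizing v with
  | zero => rfl
  | succ n ih => rw [pow_succ, pow_succ, Module.End.mul_apply, Module.End.mul_apply, ih, h]

theorem finrank_map_inj {f : V →ₗ[F] W} (hf : Function.Injective f) (p : Submodule F V) :
    finrank F (p.map f) = finrank F p := (Submodule.equivMapOfInjective f hf p).finrank_eq.symm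

/-- a submodule has smaller columns -/
theorem colOf_le_of_injective {T : V →ₗ[F] V} {S : W →ₗ[F] W} {f : V →ₗ[F] W} (hf : Function.Injective f)
    (h : ∀ v, f (T v) = S (f v)) : colOf T ≤ colOf S := by
  intro i
  change colOf T i ≤ colOf S i
  rw [colOf_apply, colOf_apply, ← finrank_map_inj hf]
  refine Submodule.finrank_mono ?_
  rintro _ ⟨v, ⟨hv1, u, rfl⟩, rfl⟩
  refine ⟨?_, ⟨f u, (pow_comm h i u).symm⟩⟩
  have h1 : T ((T ^ i) u) = 0 := hv1
  change S (f ((T ^ i) u)) = 0
  rw [← h, h1, map_zero]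

theorem colOf_eq_of_equiv {T : V →ₗ[F] V} {S : W →ₗ[F] W} (e : V ≃ₗ[F] W) (h : ∀ v, e (T v) = S (e v)) :
    colOf T = colOf S := by
  refine le_antisymm (colOf_le_of_injective (f := (e : V →ₗ[F] W)) e.injective h)
    (colOf_le_of_injective (f := (e.symm : W →ₗ[F] V)) e.symm.injective fun w => ?_)
  change e.symm (S w) = T (e.symm w)
  rw [e.symm_apply_eq, h, e.apply_symm_apply]

theorem colOf_restrict_le (T : V →ₗ[F] V) (U : Submodule F V) (h : U ≤ U.comap T) : colOf (T.restrict h) ≤ colOf T :=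
  colOf_le_of_injective (f := U.subtype) U.subtype_injective fun _ => rfl

theorem finrank_range_pow (T : V →ₗ[F] V) (i : ℕ) :
    finrank F (LinearMap.range (T ^ i)) = colOf T i + finrank F (LinearMap.range (T ^ (i + 1))) := by
  have h1 := LinearMap.finrank_range_add_finrank_ker (T ^ i)
  have h2 := LinearMap.finrank_range_add_finrank_ker (T ^ (i + 1))
  have h3 := colOf_add T i
  omega

theorem range_pow_mono (T : V →ₗ[F] V) (i : ℕ) : LinearMap.range (T ^ (i + 1)) ≤ LinearMap.range (T ^ i) := by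
  rintro _ ⟨v, rfl⟩
  exact ⟨T v, by rw [pow_succ, Module.End.mul_apply]⟩

/-- the dimension of the image in a quotient -/
theorem finrank_map_mkQ (U p : Submodule F V) :
    finrank F (p.map U.mkQ) + finrank F ↥(U ⊓ p) = finrank F p := by
  have h := LinearMap.finrank_range_add_finrank_ker (U.mkQ.domRestrict p)
  rw [← h]
  congr 1
  · rw [LinearMap.range_domRestrict]
  · rw [LinearMap.ker_domRestrict, Submodule.ker_mkQ]
    have h1 : U.submoduleOf p = (U ⊓ p).submoduleOf p := by
      ext x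
      simp [Submodule.submoduleOf]
    have h2 : Submodule.comap p.subtype U = Submodule.comap p.subtype (U ⊓ p) := by
      ext x
      simp
    rw [h2]
    exact (Submodule.comapSubtypeEquivOfLe (inf_le_right : U ⊓ p ≤ p)).finrank_eq.symm

/-- a quotient module has smaller columns -/
theorem colOf_mapQ_le (T : V →ₗ[F] V) (U : Submodule F V) (h : U ≤ U.comap T) : colOf (U.mapQ U T h) ≤ colOf T := by
  intro i
  change colOf (U.mapQ U T h) i ≤ colOf T i
  have hr : ∀ j, LinearMap.range ((U.mapQ U T h) ^ j) = (LinearMap.range (T ^ j)).map U.mkQ := by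
    intro j
    rw [← Submodule.mapQ_pow U h j, Submodule.range_mapQ]
  have h1 := finrank_range_pow (U.mapQ U T h) i
  have h2 := finrank_range_pow T i
  rw [hr, hr] at h1
  have h3 := finrank_map_mkQ U (LinearMap.range (T ^ i))
  have h4 := finrank_map_mkQ U (LinearMap.range (T ^ (i + 1)))
  have h5 : finrank F ↥(U ⊓ LinearMap.range (T ^ (i + 1))) ≤ finrank F ↥(U ⊓ LinearMap.range (T ^ i)) :=
    Submodule.finrank_mono (inf_le_inf_left _ (range_pow_mono T i))
  omega

/-- comparable partitions of the same size are equal -/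
theorem col_eq_of_le {l m : Col} (h : l ≤ m) (hs : l.size = m.size) : l = m := by
  ext i
  have hle : ∀ j, l j ≤ m j := h
  have h1 := Col.size_eq_sum_range (l := l) (b := max (max l.size m.size) (i + 1)) (by omega)
  have h2 := Col.size_eq_sum_range (l := m) (b := max (max l.size m.size) (i + 1)) (by omega)
  have h3 : ∑ j ∈ Finset.range (max (max l.size m.size) (i + 1)), l j =
      ∑ j ∈ Finset.range (max (max l.size m.size) (i + 1)), m j := by rw [← h1, ← h2, hs]
  exact (Finset.sum_eq_sum_iff_of_le fun j _ => hle j).1 h3 i (Finset.mem_range.2 (by omega))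

end dims

/-! ### submodules and quotients -/

section cnt

variable {F V W : Type*} [Field F] [AddCommGroup V] [Module F V] [Module.Finite F V]
  [AddCommGroup W] [Module F W] [Module.Finite F W]

/-- the stable subspaces -/
abbrev Sub (T : V →ₗ[F] V) : Type _ := {U : Submodule F V // U ≤ U.comap T}

/-- the type of a submodule -/
noncomputable def rt (T : V →ₗ[F] V) (U : Sub T) : Col := colOf (T.restrict U.2)

/-- the type of a quotient -/
noncomputable def qt (T : V →ₗ[F] V) (U : Sub T) : Col := colOf (U.1.mapQ U.1 T U.2)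

/-- the number of submodules of type `k` -/
noncomputable def nuS (T : V →ₗ[F] V) (k : Col) : ℕ := Nat.card {U : Sub T // rt T U = k}

/-- the number of quotients of type `k` -/
noncomputable def nuQ (T : V →ₗ[F] V) (k : Col) : ℕ := Nat.card {U : Sub T // qt T U = k}

/-- the isomorphisms -/
abbrev EqIso (T : V →ₗ[F] V) (S : W →ₗ[F] W) : Type _ := {e : V ≃ₗ[F] W // ∀ v, e (T v) = S (e v)}

/-- the homomorphisms -/
abbrev EqHom (T : V →ₗ[F] V) (S : W →ₗ[F] W) : Type _ := {f : V →ₗ[F] W // ∀ v, f (T v) = S (f v)}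

theorem rt_le (T : V →ₗ[F] V) (U : Sub T) : rt T U ≤ colOf T := colOf_restrict_le T U.1 U.2

theorem qt_le (T : V →ₗ[F] V) (U : Sub T) : qt T U ≤ colOf T := colOf_mapQ_le T U.1 U.2

theorem nuS_eq_zero (T : V →ₗ[F] V) {k : Col} (h : ¬ k ≤ colOf T) : nuS T k = 0 := by
  have : IsEmpty {U : Sub T // rt T U = k} := ⟨fun U => h (by rw [← U.2]; exact rt_le T U.1)⟩
  exact Nat.card_of_isEmpty

theorem nuQ_eq_zero (T : V →ₗ[F] V) {k : Col} (h : ¬ k ≤ colOf T) : nuQ T k = 0 := by
  have : IsEmpty {U : Sub T // qt T U = k} := ⟨fun U => h (by rw [← U.2]; exact qt_le T U.1)⟩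
  exact Nat.card_of_isEmpty

theorem size_rt (T : V →ₗ[F] V) (hT : IsNilpotent T) (U : Sub T) : (rt T U).size = finrank F U.1 :=
  size_colOf _ (Module.End.isNilpotent.restrict _ hT)

theorem size_qt (T : V →ₗ[F] V) (hT : IsNilpotent T) (U : Sub T) : (qt T U).size = finrank F (V ⧸ U.1) :=
  size_colOf _ (Module.End.IsNilpotent.mapQ _ hT)

theorem nuS_self (T : V →ₗ[F] V) (hT : IsNilpotent T) : nuS T (colOf T) = 1 := by
  rw [nuS, Nat.card_eq_one_iff_unique]
  have key : ∀ U : {U : Sub T // rt T U = colOf T}, U.1.1 = ⊤ := by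
    intro U
    have h1 := size_rt T hT U.1
    rw [U.2, size_colOf T hT] at h1
    exact Submodule.eq_top_of_finrank_eq h1.symm
  refine ⟨⟨fun U U' => Subtype.ext (Subtype.ext ((key U).trans (key U').symm))⟩, ⟨⟨⟨⊤, le_top⟩, ?_⟩⟩⟩
  refine col_eq_of_le (rt_le T _) ?_
  rw [size_rt T hT, size_colOf T hT, finrank_top]

theorem nuQ_self (T : V →ₗ[F] V) (hT : IsNilpotent T) : nuQ T (colOf T) = 1 := by
  rw [nuQ, Nat.card_eq_one_iff_unique]
  have key : ∀ U : {U : Sub T // qt T U = colOf T}, U.1.1 = ⊥ := by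
    intro U
    have h1 := size_qt T hT U.1
    rw [U.2, size_colOf T hT] at h1
    have h2 := Submodule.finrank_quotient_add_finrank U.1.1
    exact Submodule.finrank_eq_zero.1 (by omega)
  refine ⟨⟨fun U U' => Subtype.ext (Subtype.ext ((key U).trans (key U').symm))⟩, ⟨⟨⟨⊥, bot_le⟩, ?_⟩⟩⟩
  refine col_eq_of_le (qt_le T _) ?_
  rw [size_qt T hT, size_colOf T hT]
  have h2 := Submodule.finrank_quotient_add_finrank (⊥ : Submodule F V)
  rw [finrank_bot] at h2
  exact h2

/-- the homomorphism with given kernel, image, and isomorphism -/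
def homOf (T : V →ₗ[F] V) (S : W →ₗ[F] W)
    (x : Σ K : Sub T, Σ R : Sub S, EqIso (K.1.mapQ K.1 T K.2) (S.restrict R.2)) : EqHom T S :=
  ⟨x.2.1.1.subtype.comp ((x.2.2.1 : (V ⧸ x.1.1) →ₗ[F] x.2.1.1).comp x.1.1.mkQ), fun v => by
    have h := x.2.2.2 (x.1.1.mkQ v)
    exact congrArg Subtype.val h⟩

theorem homOf_apply (T : V →ₗ[F] V) (S : W →ₗ[F] W)
    (x : Σ K : Sub T, Σ R : Sub S, EqIso (K.1.mapQ K.1 T K.2) (S.restrict R.2)) (v : V) :
    (homOf T S x).1 v = ((x.2.2.1 (x.1.1.mkQ v) : x.2.1.1) : W) := rfl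

theorem ker_homOf (T : V →ₗ[F] V) (S : W →ₗ[F] W)
    (x : Σ K : Sub T, Σ R : Sub S, EqIso (K.1.mapQ K.1 T K.2) (S.restrict R.2)) :
    LinearMap.ker (homOf T S x).1 = x.1.1 := by
  ext v
  rw [LinearMap.mem_ker, homOf_apply, ZeroMemClass.coe_eq_zero, LinearEquiv.map_eq_zero_iff, Submodule.mkQ_apply,
    Submodule.Quotient.mk_eq_zero]

theorem range_homOf (T : V →ₗ[F] V) (S : W →ₗ[F] W)
    (x : Σ K : Sub T, Σ R : Sub S, EqIso (K.1.mapQ K.1 T K.2) (S.restrict R.2)) :
    LinearMap.range (homOf T S x).1 = x.2.1.1 := by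
  ext w
  constructor
  · rintro ⟨v, rfl⟩
    rw [homOf_apply]
    exact Subtype.prop _
  · intro hw
    obtain ⟨v, hv⟩ := x.1.1.mkQ_surjective (x.2.2.1.symm ⟨w, hw⟩)
    refine ⟨v, ?_⟩
    rw [homOf_apply, hv, LinearEquiv.apply_symm_apply]

theorem homOf_bijective (T : V →ₗ[F] V) (S : W →ₗ[F] W) : Function.Bijective (homOf T S) := by
  constructor
  · intro x y hxy
    have h1 : x.1.1 = y.1.1 := by rw [← ker_homOf T S x, ← ker_homOf T S y, hxy]
    have h2 : x.2.1.1 = y.2.1.1 := by rw [← range_homOf T S x, ← range_homOf T S y, hxy]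
    obtain ⟨⟨K, hK⟩, ⟨R, hR⟩, e, he⟩ := x
    obtain ⟨⟨K', hK'⟩, ⟨R', hR'⟩, e', he'⟩ := y
    change K = K' at h1
    change R = R' at h2
    subst h1 h2
    have h3 : e = e' := by
      ext q
      obtain ⟨v, rfl⟩ := K.mkQ_surjective q
      have h4 := congrArg (fun f : EqHom T S => f.1 v) hxy
      exact h4
    subst h3
    rfl
  · rintro ⟨f, hf⟩
    have hK : LinearMap.ker f ≤ (LinearMap.ker f).comap T := fun v hv => by
      rw [Submodule.mem_comap, LinearMap.mem_ker, hf, LinearMap.mem_ker.1 hv, map_zero]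
    have hR : LinearMap.range f ≤ (LinearMap.range f).comap S := by
      rintro _ ⟨v, rfl⟩
      exact ⟨T v, hf v⟩
    refine ⟨⟨⟨LinearMap.ker f, hK⟩, ⟨LinearMap.range f, hR⟩, ⟨f.quotKerEquivRange, ?_⟩⟩, ?_⟩
    · intro q
      obtain ⟨v, rfl⟩ := (LinearMap.ker f).mkQ_surjective q
      refine Subtype.ext ?_
      exact hf v
    · refine Subtype.ext (LinearMap.ext fun v => ?_)
      rfl

variable [Finite F]

instance finiteSub (T : V →ₗ[F] V) : Finite (Sub T) := by
  have : Finite V := Module.finite_of_finite F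
  infer_instance

instance finiteIso (T : V →ₗ[F] V) (S : W →ₗ[F] W) : Finite (EqIso T S) := by
  have : Finite V := Module.finite_of_finite F
  have : Finite W := Module.finite_of_finite F
  have : Finite (V ≃ₗ[F] W) := Finite.of_injective (fun e : V ≃ₗ[F] W => (e : V → W)) DFunLike.coe_injective
  infer_instance

/-- the number of homomorphisms -/
theorem card_hom (T : V →ₗ[F] V) (S : W →ₗ[F] W) (al : Col → ℕ)
    (hal : ∀ (K : Sub T) (R : Sub S), Nat.card (EqIso (K.1.mapQ K.1 T K.2) (S.restrict R.2)) =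
      if rt S R = qt T K then al (qt T K) else 0) :
    Nat.card (EqHom T S) = ∑ k ∈ Col.below (colOf T), nuQ T k * al k * nuS S k := by
  classical
  let _ := Fintype.ofFinite (Sub T)
  let _ := Fintype.ofFinite (Sub S)
  rw [← Nat.card_congr (Equiv.ofBijective _ (homOf_bijective T S)), Nat.card_sigma]
  have h1 : ∀ K : Sub T, Nat.card (Σ R : Sub S, EqIso (K.1.mapQ K.1 T K.2) (S.restrict R.2)) =
      al (qt T K) * nuS S (qt T K) := by
    intro K
    rw [Nat.card_sigma, Finset.sum_congr rfl fun R _ => hal K R, ← Finset.sum_filter, Finset.sum_const,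
      smul_eq_mul, mul_comm, nuS, Nat.card_eq_fintype_card, Fintype.card_subtype]
  rw [Finset.sum_congr rfl fun K _ => h1 K]
  rw [← Finset.sum_fiberwise_of_maps_to (s := Finset.univ) (t := Col.below (colOf T)) (g := qt T)
    (fun K _ => Col.mem_below.2 (qt_le T K))]
  refine Finset.sum_congr rfl fun k _ => ?_
  rw [Finset.sum_congr rfl (g := fun _ => al k * nuS S k) (fun K hK => by rw [(Finset.mem_filter.1 hK).2]),
    Finset.sum_const, smul_eq_mul, mul_assoc]
  congr 1
  rw [nuQ, Nat.card_eq_fintype_card, Fintype.card_subtype]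

end cnt

theorem eq_of_sum_eq {ι : Type*} {s : Finset ι} {f g : ι → ℤ} (h : ∑ x ∈ s, f x = ∑ x ∈ s, g x) {a : ι} (ha : a ∈ s)
    (h' : ∀ x ∈ s, x ≠ a → f x = g x) : f a = g a := by
  classical
  rw [← Finset.add_sum_erase s f ha, ← Finset.add_sum_erase s g ha,
    Finset.sum_congr rfl fun x hx => h' x (Finset.mem_of_mem_erase hx) (Finset.ne_of_mem_erase hx)] at h
  exact add_right_cancel h

/-! ### the results -/

section main

universe u

/-- the inputs (A1 and A2a) -/
structure Input (F : Type u) [Field F] [Finite F] : Prop where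
  Np_eq_zero : ∀ {l k : Col}, ¬ k ≤ l → Np l k = 0
  Np_self : ∀ l : Col, Np l l = 1
  I1 : ∀ l m : Col, ∑ k ∈ Col.below l, Np l k * Np m k * ap k = X ^ l.ip m
  finrank_hom : ∀ {V W : Type u} [AddCommGroup V] [Module F V] [Module.Finite F V] [AddCommGroup W] [Module F W]
    [Module.Finite F W] (T : V →ₗ[F] V) (S : W →ₗ[F] W), IsNilpotent T → IsNilpotent S →
    ∀ H : Submodule F (V →ₗ[F] W), (∀ f, f ∈ H ↔ f.comp T = S.comp f) → finrank F H = (colOf T).ip (colOf S)
  exists_colOf : ∀ l : Col, ∃ T : (Fin l.size → F) →ₗ[F] (Fin l.size → F), IsNilpotent T ∧ colOf T = l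
  similar_of_colOf : ∀ {V W : Type u} [AddCommGroup V] [Module F V] [Module.Finite F V] [AddCommGroup W] [Module F W]
    [Module.Finite F W] (T : V →ₗ[F] V) (S : W →ₗ[F] W), IsNilpotent T → IsNilpotent S → colOf T = colOf S →
    ∃ e : V ≃ₗ[F] W, ∀ v, e (T v) = S (e v)

variable {F : Type u} [Field F] [Finite F]

/-- the subspace of homomorphisms -/
def homSub {V W : Type u} [AddCommGroup V] [Module F V] [AddCommGroup W] [Module F W] (T : V →ₗ[F] V)
    (S : W →ₗ[F] W) : Submodule F (V →ₗ[F] W) where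
  carrier := {f | f.comp T = S.comp f}
  add_mem' {f g} hf hg := by
    simp only [Set.mem_ofPred_eq] at *
    rw [LinearMap.add_comp, hf, hg, LinearMap.comp_add]
  zero_mem' := by simp
  smul_mem' c f hf := by
    simp only [Set.mem_ofPred_eq] at *
    rw [LinearMap.smul_comp, hf, LinearMap.comp_smul]

theorem card_eqHom (I : Input F) {V W : Type u} [AddCommGroup V] [Module F V] [Module.Finite F V] [AddCommGroup W]
    [Module F W] [Module.Finite F W] (T : V →ₗ[F] V) (S : W →ₗ[F] W) (hT : IsNilpotent T) (hS : IsNilpotent S) :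
    Nat.card (EqHom T S) = Nat.card F ^ (colOf T).ip (colOf S) := by
  rw [← I.finrank_hom T S hT hS (homSub T S) fun _ => Iff.rfl, ← Module.natCard_eq_pow_finrank]
  refine Nat.card_congr (Equiv.subtypeEquivRight fun f => ?_)
  exact ⟨fun h => LinearMap.ext h, fun h v => congrArg (fun g : V →ₗ[F] W => g v) h⟩

/-- the number of automorphisms of the module of type `k` -/
noncomputable def al (F : Type u) [Field F] [Finite F] (k : Col) : ℕ := by
  classical
  exact if h : ∃ T : (Fin k.size → F) →ₗ[F] (Fin k.size → F), IsNilpotent T ∧ colOf T = k then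
    Nat.card (EqIso h.choose h.choose) else 0

theorem card_eqIso (I : Input F) {V W : Type u} [AddCommGroup V] [Module F V] [Module.Finite F V] [AddCommGroup W]
    [Module F W] [Module.Finite F W] (T : V →ₗ[F] V) (S : W →ₗ[F] W) (hT : IsNilpotent T) (hS : IsNilpotent S)
    (h : colOf S = colOf T) : Nat.card (EqIso T S) = al F (colOf T) := by
  classical
  have hex := I.exists_colOf (colOf T)
  rw [al, dif_pos hex]
  set R := hex.choose with hR
  obtain ⟨hRn, hRc⟩ := hex.choose_spec
  rw [← hR] at hRn hRc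
  obtain ⟨e1, he1⟩ := I.similar_of_colOf R T hRn hT hRc
  obtain ⟨e2, he2⟩ := I.similar_of_colOf S R hS hRn (h.trans hRc.symm)
  have he1' : ∀ v, e1.symm (T v) = R (e1.symm v) := fun v => by
    rw [e1.symm_apply_eq, he1, e1.apply_symm_apply]
  have he2' : ∀ v, e2.symm (R v) = S (e2.symm v) := fun v => by
    rw [e2.symm_apply_eq, he2, e2.apply_symm_apply]
  refine Nat.card_congr ⟨fun e => ⟨(e1.trans e.1).trans e2, fun v => ?_⟩,
    fun e => ⟨(e1.symm.trans e.1).trans e2.symm, fun v => ?_⟩, fun e => ?_, fun e => ?_⟩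
  · simp only [LinearEquiv.trans_apply]
    rw [he1, e.2, he2]
  · simp only [LinearEquiv.trans_apply]
    rw [he1', e.2, he2']
  · refine Subtype.ext (LinearEquiv.ext fun v => ?_)
    simp
  · refine Subtype.ext (LinearEquiv.ext fun v => ?_)
    simp

theorem al_pos (I : Input F) (k : Col) : 0 < al F k := by
  obtain ⟨T, hT, hk⟩ := I.exists_colOf k
  have h1 := card_eqIso I T T hT hT rfl
  rw [hk] at h1
  rw [← h1]
  have : Nonempty (EqIso T T) := ⟨⟨LinearEquiv.refl F _, fun _ => rfl⟩⟩
  exact Nat.card_pos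

/-- the `LDU` identity -/
theorem ldu (I : Input F) {V W : Type u} [AddCommGroup V] [Module F V] [Module.Finite F V] [AddCommGroup W]
    [Module F W] [Module.Finite F W] (T : V →ₗ[F] V) (S : W →ₗ[F] W) (hT : IsNilpotent T) (hS : IsNilpotent S) :
    ∑ k ∈ Col.below (colOf T), ((nuQ T k : ℤ) * (al F k : ℤ) * (nuS S k : ℤ)) =
      ∑ k ∈ Col.below (colOf T), ((Np (colOf T) k).eval (Nat.card F : ℤ) * (Np (colOf S) k).eval (Nat.card F : ℤ) *
        (ap k).eval (Nat.card F : ℤ)) := by
  have h1 := card_hom T S (al F) (fun K R => by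
    split_ifs with h
    · exact card_eqIso I _ _ (Module.End.IsNilpotent.mapQ _ hT) (Module.End.isNilpotent.restrict _ hS) h
    · have : IsEmpty (EqIso (K.1.mapQ K.1 T K.2) (S.restrict R.2)) :=
        ⟨fun e => h (colOf_eq_of_equiv e.1 e.2).symm⟩
      exact Nat.card_of_isEmpty)
  rw [card_eqHom I T S hT hS] at h1
  have h2 := congrArg (Polynomial.eval (Nat.card F : ℤ)) (I.I1 (colOf T) (colOf S))
  rw [Polynomial.eval_finsetSum, Polynomial.eval_pow, Polynomial.eval_X] at h2
  simp only [Polynomial.eval_mul] at h2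
  rw [h2]
  have h3 := congrArg (Nat.cast : ℕ → ℤ) h1
  push_cast at h3
  exact h3.symm

theorem main (I : Input F) (n : ℕ) : ∀ k : Col, k.size = n →
    (∀ {V : Type u} [AddCommGroup V] [Module F V] [Module.Finite F V] (T : V →ₗ[F] V), IsNilpotent T →
      (nuS T k : ℤ) = (Np (colOf T) k).eval (Nat.card F : ℤ) ∧ (nuQ T k : ℤ) = (Np (colOf T) k).eval (Nat.card F : ℤ)) ∧
    (al F k : ℤ) = (ap k).eval (Nat.card F : ℤ) := by
  induction n using Nat.strong_induction_on with
  | _ n ih =>
  intro k0 hk0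
  obtain ⟨R, hR, hRk⟩ := I.exists_colOf k0
  have hlt : ∀ k : Col, k ≤ k0 → k ≠ k0 → k.size < n := by
    intro k hk hne
    have h1 := Col.size_mono hk
    have h2 : k.size ≠ k0.size := fun h => hne (col_eq_of_le hk h)
    omega
  have hNz : ∀ l k : Col, ¬ k ≤ l → (Np l k).eval (Nat.card F : ℤ) = 0 := fun l k h => by
    rw [I.Np_eq_zero h, Polynomial.eval_zero]
  have hN1 : (Np k0 k0).eval (Nat.card F : ℤ) = 1 := by rw [I.Np_self, Polynomial.eval_one]
  have hS1 : nuS R k0 = 1 := by
    have := nuS_self R hR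
    rwa [hRk] at this
  have hQ1 : nuQ R k0 = 1 := by
    have := nuQ_self R hR
    rwa [hRk] at this
  -- quotients
  have hq : ∀ {V : Type u} [AddCommGroup V] [Module F V] [Module.Finite F V] (T : V →ₗ[F] V), IsNilpotent T →
      k0 ≤ colOf T → (nuQ T k0 : ℤ) * (al F k0 : ℤ) =
        (Np (colOf T) k0).eval (Nat.card F : ℤ) * (ap k0).eval (Nat.card F : ℤ) := by
    intro V _ _ _ T hT hle
    have h1 := eq_of_sum_eq (ldu I T R hT hR) (Col.mem_below.2 hle) (fun k _ hne => by
      rw [hRk]
      by_cases hk : k ≤ k0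
      · obtain ⟨h2, h3⟩ := ih k.size (hlt k hk hne) k rfl
        have h4 := (h2 R hR).1
        rw [hRk] at h4
        rw [(h2 T hT).2, h4, h3]
        ring
      · rw [hNz k0 k hk, nuS_eq_zero R (by rw [hRk]; exact hk)]
        simp)
    rw [hRk, hS1, hN1] at h1
    simpa using h1
  have hal : (al F k0 : ℤ) = (ap k0).eval (Nat.card F : ℤ) := by
    have h1 := hq R hR hRk.ge
    rw [hRk, hQ1, hN1] at h1
    simpa using h1
  have hal0 : (al F k0 : ℤ) ≠ 0 := by
    have := al_pos I k0
    exact_mod_cast this.ne'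
  refine ⟨?_, hal⟩
  intro V _ _ _ T hT
  by_cases hle : k0 ≤ colOf T
  · constructor
    · -- submodules
      have h1 := eq_of_sum_eq (ldu I R T hR hT) (a := k0) (Col.mem_below.2 hRk.ge) (fun k hk' hne => by
        have hk : k ≤ k0 := by
          have := Col.mem_below.1 hk'
          rwa [hRk] at this
        rw [hRk]
        obtain ⟨h2, h3⟩ := ih k.size (hlt k hk hne) k rfl
        have h4 := (h2 R hR).2
        rw [hRk] at h4
        rw [(h2 T hT).1, h4, h3]
        ring)
      rw [hRk, hQ1, hN1] at h1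
      rw [← hal] at h1
      have h2 : (nuS T k0 : ℤ) * (al F k0 : ℤ) = (Np (colOf T) k0).eval (Nat.card F : ℤ) * (al F k0 : ℤ) := by
        have h3 : (1 : ℤ) * (al F k0 : ℤ) * (nuS T k0 : ℤ) =
          1 * (Np (colOf T) k0).eval (Nat.card F : ℤ) * (al F k0 : ℤ) := by simpa using h1
        linarith
      exact mul_right_cancel₀ hal0 h2
    · have h1 := hq T hT hle
      rw [← hal] at h1
      exact mul_right_cancel₀ hal0 h1
  · rw [hNz _ _ hle, nuS_eq_zero T hle, nuQ_eq_zero T hle]
    simp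

variable {V : Type u} [AddCommGroup V] [Module F V] [Module.Finite F V]

/-- number of submodules of given type -/
theorem card_sub_of (I : Input F) (T : V →ₗ[F] V) (hT : IsNilpotent T) (n : Col) :
    (Nat.card {W : Submodule F V // ∃ h : W ≤ W.comap T, colOf (T.restrict h) = n} : ℤ) =
      (Np (colOf T) n).eval (Nat.card F : ℤ) := by
  rw [← ((main I n.size n rfl).1 T hT).1, nuS]
  congr 1
  exact Nat.card_congr ⟨fun W => ⟨⟨W.1, W.2.1⟩, W.2.2⟩, fun W => ⟨W.1.1, W.1.2, W.2⟩, fun _ => rfl, fun _ => rfl⟩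

/-- number of submodules with quotient of given type -/
theorem card_quot_of (I : Input F) (T : V →ₗ[F] V) (hT : IsNilpotent T) (n : Col) :
    (Nat.card {W : Submodule F V // ∃ h : W ≤ W.comap T, colOf (W.mapQ W T h) = n} : ℤ) =
      (Np (colOf T) n).eval (Nat.card F : ℤ) := by
  rw [← ((main I n.size n rfl).1 T hT).2, nuQ]
  congr 1
  exact Nat.card_congr ⟨fun W => ⟨⟨W.1, W.2.1⟩, W.2.2⟩, fun W => ⟨W.1.1, W.1.2, W.2⟩, fun _ => rfl, fun _ => rfl⟩

/-- number of automorphisms -/
theorem card_aut_of (I : Input F) (T : V →ₗ[F] V) (hT : IsNilpotent T) :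
    (Nat.card {e : V ≃ₗ[F] V // ∀ v, e (T v) = T (e v)} : ℤ) = (ap (colOf T)).eval (Nat.card F : ℤ) := by
  rw [← (main I (colOf T).size (colOf T) rfl).2, ← card_eqIso I T T hT hT rfl]

end main

end Cfsg.Agent.H273.GU
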