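import Cfsg.Agent.H273.GU.CardSub
import Cfsg.Agent.H474.GU.NF
import Cfsg.Agent.H521.GU.HomId

/-!
# S4537, part A2b: `card_sub`, `card_quot`, `card_aut` (helper273)
-/

set_option autoImplicit false

open Polynomial Module Cfsg.Agent.H615.GU

namespace Cfsg.Agent.H273.GU

universe u

theorem input (F : Type u) [Field F] [Finite F] : Input F where
  Np_eq_zero := H521.GU.Np_eq_zero
  Np_self := H521.GU.Np_self
  I1 := H521.GU.I1
  finrank_hom T S hT hS H hH := H474.GU.finrank_hom T S hT hS H hH
  exists_colOf l := H474.GU.exists_colOf F l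
  similar_of_colOf T S hT hS h := H474.GU.similar_of_colOf T S hT hS h

variable {F : Type u} [Field F] [Finite F] {V : Type u} [AddCommGroup V] [Module F V] [Module.Finite F V]

/-- number of submodules of given type -/
theorem card_sub (T : V →ₗ[F] V) (hT : IsNilpotent T) (n : Col) :
    (Nat.card {W : Submodule F V // ∃ h : W ≤ W.comap T, colOf (T.restrict h) = n} : ℤ) =
      (Np (colOf T) n).eval (Nat.card F : ℤ) := card_sub_of (input F) T hT n

/-- number of submodules with quotient of given type -/
theorem card_quot (T : V →ₗ[F] V) (hT : IsNilpotent T) (n : Col) :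
    (Nat.card {W : Submodule F V // ∃ h : W ≤ W.comap T, colOf (W.mapQ W T h) = n} : ℤ) =
      (Np (colOf T) n).eval (Nat.card F : ℤ) := card_quot_of (input F) T hT n

/-- number of automorphisms -/
theorem card_aut (T : V →ₗ[F] V) (hT : IsNilpotent T) :
    (Nat.card {e : V ≃ₗ[F] V // ∀ v, e (T v) = T (e v)} : ℤ) = (ap (colOf T)).eval (Nat.card F : ℤ) :=
  card_aut_of (input F) T hT

end Cfsg.Agent.H273.GU
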