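import Cfsg.Agent.H273.GU.CardSub

/-!
# S4537, part A2a: every partition occurs (helper273)

`exists_colOf` : the shift `(T f) i j = f (i + 1) j` on the functions supported by the diagram `{(i, j) | j < l i}`.
-/

set_option autoImplicit false
set_option linter.unusedSectionVars false

open Module Cfsg.Agent.H615.GU

namespace Cfsg.Agent.H273.GU

universe u

variable (F : Type u) [Field F]

/-- the functions supported by a diagram -/
def Dg (l : ℕ → ℕ) : Submodule F (ℕ → ℕ → F) where
  carrier := {f | ∀ i j, l i ≤ j → f i j = 0}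
  add_mem' {f g} hf hg i j h := by
    change f i j + g i j = 0
    rw [hf i j h, hg i j h, add_zero]
  zero_mem' _ _ _ := rfl
  smul_mem' c f hf i j h := by
    change c • f i j = 0
    rw [hf i j h, smul_zero]

variable {F}

theorem mem_Dg {l : ℕ → ℕ} {f : ℕ → ℕ → F} : f ∈ Dg F l ↔ ∀ i j, l i ≤ j → f i j = 0 := Iff.rfl

open Classical in
/-- coordinates -/
noncomputable def dgEquiv (l : ℕ → ℕ) {b : ℕ} (hb : ∀ i, b ≤ i → l i = 0) :
    Dg F l ≃ₗ[F] ((Σ i : Fin b, Fin (l i)) → F) where
  toFun f x := f.1 x.1 x.2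
  map_add' _ _ := rfl
  map_smul' _ _ := rfl
  invFun g := ⟨fun i j => if h : i < b ∧ j < l i then g ⟨⟨i, h.1⟩, ⟨j, h.2⟩⟩ else 0, fun i j h =>
    dif_neg fun h' => absurd h'.2 (not_lt.2 h)⟩
  left_inv f := by
    refine Subtype.ext (funext fun i => funext fun j => ?_)
    by_cases h : i < b ∧ j < l i
    · exact dif_pos h
    · change dite _ _ _ = _
      rw [dif_neg h]
      symm
      apply f.2
      by_cases hi : i < b
      · exact not_lt.1 fun hj => h ⟨hi, hj⟩
      · rw [hb i (not_lt.1 hi)]
        exact Nat.zero_le _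
  right_inv g := by
    funext x
    obtain ⟨i, j⟩ := x
    exact dif_pos ⟨i.2, j.2⟩

theorem finite_Dg (l : ℕ → ℕ) {b : ℕ} (hb : ∀ i, b ≤ i → l i = 0) : Module.Finite F (Dg F l) :=
  Module.Finite.equiv (dgEquiv l hb).symm

theorem finrank_Dg (l : ℕ → ℕ) {b : ℕ} (hb : ∀ i, b ≤ i → l i = 0) :
    finrank F (Dg F l) = ∑ i ∈ Finset.range b, l i := by
  rw [(dgEquiv l hb).finrank_eq, Module.finrank_fintype_fun_eq_card, Fintype.card_sigma]
  simp only [Fintype.card_fin]
  exact (Finset.sum_range fun i => l i).symm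

/-- the shift -/
def shift (l : Col) : Dg F l →ₗ[F] Dg F l where
  toFun f := ⟨fun i j => f.1 (i + 1) j, fun i j h => f.2 _ _ ((l.anti (Nat.le_succ i)).trans h)⟩
  map_add' _ _ := rfl
  map_smul' _ _ := rfl

theorem shift_pow (l : Col) (n : ℕ) (f : Dg F l) (i j : ℕ) : (((shift l) ^ n) f).1 i j = f.1 (i + n) j := by
  induction n generalizing f with
  | zero => rfl
  | succ n ih =>
    rw [pow_succ, Module.End.mul_apply, ih]
    change f.1 (i + n + 1) j = f.1 (i + (n + 1)) j
    rw [add_assoc]

theorem shift_nilp (l : Col) : IsNilpotent (shift (F := F) l) := by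
  refine ⟨l.size, LinearMap.ext fun f => Subtype.ext (funext fun i => funext fun j => ?_)⟩
  rw [shift_pow]
  exact f.2 _ _ (by rw [Col.apply_of_size_le (Nat.le_add_left _ _)]; exact Nat.zero_le _)

theorem finrank_ker_shift (l : Col) (n : ℕ) :
    finrank F (LinearMap.ker ((shift (F := F) l) ^ n)) = ∑ i ∈ Finset.range n, l i := by
  let l' : ℕ → ℕ := fun i => if i < n then l i else 0
  have hb : ∀ i, n ≤ i → l' i = 0 := fun i hi => if_neg (not_lt.2 hi)
  have hle : ∀ i, l' i ≤ l i := fun i => by
    change (if i < n then l i else 0) ≤ l i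
    split_ifs
    · exact le_rfl
    · exact Nat.zero_le _
  have e : LinearMap.ker ((shift (F := F) l) ^ n) ≃ₗ[F] Dg F l' :=
    { toFun := fun f => ⟨f.1.1, fun i j h => by
        by_cases hi : i < n
        · exact f.1.2 i j (by change (if i < n then l i else 0) ≤ j at h; rwa [if_pos hi] at h)
        · have h1 := congrArg (fun g : Dg F l => g.1 (i - n) j) (LinearMap.mem_ker.1 f.2)
          simp only [shift_pow] at h1
          rw [Nat.sub_add_cancel (not_lt.1 hi)] at h1
          exact h1⟩
      map_add' := fun _ _ => rfl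
      map_smul' := fun _ _ => rfl
      invFun := fun g => ⟨⟨g.1, fun i j h => g.2 i j ((hle i).trans h)⟩, by
        rw [LinearMap.mem_ker]
        refine Subtype.ext (funext fun i => funext fun j => ?_)
        rw [shift_pow]
        exact g.2 _ _ (by rw [hb _ (Nat.le_add_left _ _)]; exact Nat.zero_le _)⟩
      left_inv := fun _ => rfl
      right_inv := fun _ => rfl }
  rw [e.finrank_eq, finrank_Dg l' hb]
  refine Finset.sum_congr rfl fun i hi => ?_
  exact if_pos (Finset.mem_range.1 hi)

/-- **every partition occurs** -/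
theorem exists_colOf (F : Type u) [Field F] (l : Col) :
    ∃ T : (Fin l.size → F) →ₗ[F] (Fin l.size → F), IsNilpotent T ∧ colOf T = l := by
  have hb : ∀ i, l.size ≤ i → l i = 0 := fun i hi => Col.apply_of_size_le hi
  have hfin : Module.Finite F (Dg F l) := finite_Dg _ hb
  have hr : finrank F (Dg F l) = finrank F (Fin l.size → F) := by
    rw [finrank_Dg _ hb, Module.finrank_fintype_fun_eq_card, Fintype.card_fin, ← Col.size_eq_sum_range le_rfl]
  have e : Dg F l ≃ₗ[F] (Fin l.size → F) := LinearEquiv.ofFinrankEq _ _ hr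
  let T : (Fin l.size → F) →ₗ[F] (Fin l.size → F) := (e : _ →ₗ[F] _) ∘ₗ (shift l) ∘ₗ (e.symm : _ →ₗ[F] _)
  have hT : ∀ v, e (shift l v) = T (e v) := fun v => by
    change e (shift l v) = e (shift l (e.symm (e v)))
    rw [e.symm_apply_apply]
  have hpow : ∀ (n : ℕ) (v : Dg F l), e (((shift l) ^ n) v) = (T ^ n) (e v) := fun n v => pow_comm hT n v
  refine ⟨T, ?_, ?_⟩
  · obtain ⟨n, hn⟩ := shift_nilp (F := F) l
    refine ⟨n, LinearMap.ext fun w => ?_⟩
    obtain ⟨v, rfl⟩ := e.surjective w
    rw [← hpow, hn]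
    simp
  · rw [← colOf_eq_of_equiv e hT]
    ext i
    have h1 := colOf_add (shift (F := F) l) i
    rw [finrank_ker_shift, finrank_ker_shift, Finset.sum_range_succ] at h1
    omega

end Cfsg.Agent.H273.GU
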